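import Mathlib
import Groth.Prelude.Def_W4c2conddiscmodels

/-! Contracting a connecting chain in a multigraph with multiplicity function. -/

set_option autoImplicit false
universe u
open Finset LabGraph

namespace Groth.Agent.LabChainH28

variable {V E : Type u} [Fintype V] [Fintype E] [DecidableEq V] [DecidableEq E]
variable {ends : E → V × V} {β : V → ℤ}

lemma edgeMult_comm (v w : V) : edgeMult ends v w = edgeMult ends w v := by
  unfold edgeMult; congr 1; ext e; simp [or_comm]

lemma alpha_symm (v w : V) : mfMatrix ends β v w = mfMatrix ends β w v := by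
  by_cases h : v = w
  · rw [h]
  · simp [mfMatrix, h, Ne.symm h, edgeMult_comm]

lemma alpha_beta (hβ : IsMultFn ends β) (v : V) : ∑ w, mfMatrix ends β v w * β w = 0 := by
  rw [← Finset.add_sum_erase _ _ (mem_univ v)]
  have h1 : ∑ w ∈ univ.erase v, mfMatrix ends β v w * β w
      = ∑ w ∈ univ.erase v, β w * (edgeMult ends v w : ℤ) :=
    Finset.sum_congr rfl fun w hw => by
      rw [Finset.mem_erase] at hw
      simp [mfMatrix, Ne.symm hw.1, mul_comm]
  rw [h1, mfMatrix, if_pos rfl, Int.ediv_mul_cancel (dvd_neg.2 (hβ v).2)]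
  ring

lemma edgeMult_zero_of {v w : V} (h : ∀ e, ¬ (ends e = (v, w) ∨ ends e = (w, v))) :
    edgeMult ends v w = 0 := by
  unfold edgeMult; rw [Finset.card_eq_zero, Finset.filter_eq_empty_iff]; exact fun e _ => h e

section Push

variable (ends) (D : Finset E)

lemma ctrMk_out (c : DualGr.CtrVert ends D) :
    DualGr.ctrMk ends D (Quotient.out (s := DualGr.ctrSetoid ends D) c) = c :=
  Quotient.out_eq (s := DualGr.ctrSetoid ends D) c

lemma ctrFn_mk (hc : ∀ v v', DualGr.ctrMk ends D v = DualGr.ctrMk ends D v' → β v = β v') (v : V) :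
    ctrFn ends D β (DualGr.ctrMk ends D v) = β v :=
  hc _ _ (ctrMk_out ends D _)

variable {D}

lemma edgeMult_ctr {C C' : DualGr.CtrVert ends D} (h : C ≠ C') :
    edgeMult (DualGr.ctrEnds ends D) C C'
      = ∑ v ∈ univ.filter (fun v => DualGr.ctrMk ends D v = C),
          ∑ w ∈ univ.filter (fun v => DualGr.ctrMk ends D v = C'), edgeMult ends v w := by
  simp only [edgeMult, Finset.card_filter]
  conv_rhs => enter [2, v]; rw [Finset.sum_comm]
  rw [Finset.sum_comm]
  have hR : ∀ g : E → ℕ, (∀ e ∈ D, g e = 0) → ∑ e, g e = ∑ e : DualGr.CtrEdge D, g e.1 := by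
    intro g hg
    rw [← Finset.sum_subtype (univ.filter (fun e : E => e ∉ D)) (p := fun e => e ∉ D)
      (by intro e; simp) g]
    refine (Finset.sum_subset (subset_univ _) fun e _ he => hg e ?_).symm
    simpa using he
  have key : ∀ e : E, (∑ v ∈ univ.filter (fun v => DualGr.ctrMk ends D v = C),
      ∑ w ∈ univ.filter (fun v => DualGr.ctrMk ends D v = C'),
        if ends e = (v, w) ∨ ends e = (w, v) then 1 else 0)
      = if (DualGr.ctrMk ends D (ends e).1, DualGr.ctrMk ends D (ends e).2) = (C, C') ∨
          (DualGr.ctrMk ends D (ends e).1, DualGr.ctrMk ends D (ends e).2) = (C', C) then 1 else 0 := by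
    intro e
    obtain ⟨a, b⟩ := ends e
    rw [← Finset.sum_product']
    split_ifs with hh
    · rcases hh with hh | hh <;> simp only [Prod.mk.injEq] at hh
      · rw [Finset.sum_eq_single (a, b)]
        · simp
        · intro p hp hne
          rw [if_neg]
          simp only [mem_product, mem_filter, mem_univ, true_and] at hp
          rintro (h1 | h1) <;> simp only [Prod.mk.injEq] at h1
          · exact hne (Prod.ext h1.1.symm h1.2.symm)
          · exact h (by rw [← hp.1, ← h1.2, hh.2])
        · intro hp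
          simp [hh.1, hh.2] at hp
      · rw [Finset.sum_eq_single (b, a)]
        · simp
        · intro p hp hne
          rw [if_neg]
          simp only [mem_product, mem_filter, mem_univ, true_and] at hp
          rintro (h1 | h1) <;> simp only [Prod.mk.injEq] at h1
          · exact h (by rw [← hp.1, ← h1.1, hh.1])
          · exact hne (Prod.ext h1.2.symm h1.1.symm)
        · intro hp
          simp [hh.1, hh.2] at hp
    · refine Finset.sum_eq_zero fun p hp => if_neg ?_
      simp only [mem_product, mem_filter, mem_univ, true_and] at hp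
      rintro (h1 | h1) <;> simp only [Prod.mk.injEq] at h1
      · exact hh (Or.inl (by rw [h1.1, h1.2, hp.1, hp.2]))
      · exact hh (Or.inr (by rw [h1.1, h1.2, hp.1, hp.2]))
  rw [hR]
  · exact Finset.sum_congr rfl fun e _ => by
      unfold DualGr.ctrEnds
      rw [key e.1]
  · intro e he
    rw [key e, if_neg]
    rw [DualGr.ctrMk_fst_eq_ctrMk_snd ends D he]
    rintro (h1 | h1) <;> simp only [Prod.mk.injEq] at h1
    · exact h (h1.1 ▸ h1.2)
    · exact h (h1.2 ▸ h1.1)

lemma mfMatrix_ctr (hβ : IsMultFn ends β)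
    (hc : ∀ v v', DualGr.ctrMk ends D v = DualGr.ctrMk ends D v' → β v = β v')
    (C C' : DualGr.CtrVert ends D) :
    mfMatrix (DualGr.ctrEnds ends D) (ctrFn ends D β) C C'
      = ∑ v ∈ univ.filter (fun v => DualGr.ctrMk ends D v = C),
          ∑ w ∈ univ.filter (fun v => DualGr.ctrMk ends D v = C'), mfMatrix ends β v w := by
  set A : DualGr.CtrVert ends D → ℤ := fun C' =>
    ∑ v ∈ univ.filter (fun v => DualGr.ctrMk ends D v = C),
      ∑ w ∈ univ.filter (fun v => DualGr.ctrMk ends D v = C'), mfMatrix ends β v w with hA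
  have hoff : ∀ C', C ≠ C' → (edgeMult (DualGr.ctrEnds ends D) C C' : ℤ) = A C' := by
    intro C' hne
    rw [edgeMult_ctr ends hne, hA]
    push_cast
    refine Finset.sum_congr rfl fun v hv => Finset.sum_congr rfl fun w hw => ?_
    simp only [mem_filter, mem_univ, true_and] at hv hw
    rw [mfMatrix, if_neg]
    rintro rfl
    exact hne (hv.symm.trans hw)
  by_cases hCC : C = C'
  · subst hCC
    have hsum : ∑ C', ctrFn ends D β C' * A C' = 0 := by
      have : ∀ C', ctrFn ends D β C' * A C' = ∑ v ∈ univ.filter (fun v => DualGr.ctrMk ends D v = C),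
          ∑ w ∈ univ.filter (fun v => DualGr.ctrMk ends D v = C'), mfMatrix ends β v w * β w := by
        intro C'
        rw [hA, Finset.mul_sum]
        refine Finset.sum_congr rfl fun v _ => ?_
        rw [Finset.mul_sum]
        refine Finset.sum_congr rfl fun w hw => ?_
        simp only [mem_filter, mem_univ, true_and] at hw
        rw [← hw, ctrFn_mk ends D hc, mul_comm]
      rw [Finset.sum_congr rfl fun C' _ => this C', Finset.sum_comm]
      refine Finset.sum_eq_zero fun v _ => ?_
      rw [Finset.sum_fiberwise univ (fun v => DualGr.ctrMk ends D v) fun w => mfMatrix ends β v w * β w]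
      exact alpha_beta hβ v
    rw [← Finset.add_sum_erase _ _ (mem_univ C)] at hsum
    have he : ∑ u ∈ univ.erase C, ctrFn ends D β u * (edgeMult (DualGr.ctrEnds ends D) C u : ℤ)
        = ∑ u ∈ univ.erase C, ctrFn ends D β u * A u :=
      Finset.sum_congr rfl fun u hu => by rw [hoff u (Ne.symm (Finset.mem_erase.1 hu).1)]
    rw [mfMatrix, if_pos rfl, he]
    have hne : ctrFn ends D β C ≠ 0 := (hβ _).1.ne'
    rw [show -(∑ u ∈ univ.erase C, ctrFn ends D β u * A u) = A C * ctrFn ends D β C by linarith,
      Int.mul_ediv_cancel _ hne]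
  · rw [mfMatrix, if_neg hCC]; exact hoff C' hCC

lemma push_mulVec (hβ : IsMultFn ends β)
    (hc : ∀ v v', DualGr.ctrMk ends D v = DualGr.ctrMk ends D v' → β v = β v')
    (y : DualGr.CtrVert ends D → ℤ) :
    (mfMatrix (DualGr.ctrEnds ends D) (ctrFn ends D β)).mulVec y
      = DualGr.pushV ends D ((mfMatrix ends β).mulVec (fun v => y (DualGr.ctrMk ends D v))) := by
  funext C
  simp only [Matrix.mulVec, dotProduct, DualGr.pushV, LinearMap.coe_mk, AddHom.coe_mk]
  conv_lhs => enter [2, C']; rw [mfMatrix_ctr ends hβ hc, Finset.sum_mul]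
  rw [Finset.sum_comm]
  refine Finset.sum_congr rfl fun v _ => ?_
  rw [← Finset.sum_fiberwise univ (fun v => DualGr.ctrMk ends D v)
    fun w => mfMatrix ends β v w * y (DualGr.ctrMk ends D w)]
  refine Finset.sum_congr rfl fun C' _ => ?_
  rw [Finset.sum_mul]
  refine Finset.sum_congr rfl fun w hw => ?_
  simp only [mem_filter, mem_univ, true_and] at hw
  rw [hw]

end Push

section Chain

/-- Hypotheses of the chain lemmas, with `F : ℕ → V` the chain. -/
structure Data (ends : E → V × V) (β : V → ℤ) (m : ℕ) (F : ℕ → V) (D : Finset E) (S : Finset V) : Prop where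
  mult : IsMultFn ends β
  pos : 1 ≤ m
  inj : ∀ i j, i ≤ m → j ≤ m → F i = F j → i = j
  bval : ∀ i, i ≤ m → β (F i) = m
  diag : ∀ i, i ≤ m → mfMatrix ends β (F i) (F i) = -2
  one : ∀ i, i < m → edgeMult ends (F i) (F (i + 1)) = 1
  Dsub : ∀ e' ∈ D, ∃ i, i < m ∧ (ends e' = (F i, F (i + 1)) ∨ ends e' = (F (i + 1), F i))
  Dsup : ∀ i, i < m → DualGr.ctrMk ends D (F i) = DualGr.ctrMk ends D (F (i + 1))
  S0 : F 0 ∉ S
  Spos : ∀ i, 1 ≤ i → i ≤ m → F i ∈ S
  Scross : ∀ v w, v ∈ S → w ∉ S → edgeMult ends v w ≠ 0 → v = F 1 ∧ w = F 0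

variable {m : ℕ} {F : ℕ → V} {D : Finset E} {S : Finset V} (h : Data ends β m F D S)
include h

lemma interior {j : ℕ} (h1 : 1 ≤ j) (h2 : j < m) {w : V} (hw : mfMatrix ends β (F j) w ≠ 0) :
    w = F (j - 1) ∨ w = F j ∨ w = F (j + 1) := by
  by_contra hcon
  push Not at hcon
  obtain ⟨n1, n2, n3⟩ := hcon
  apply hw
  have hne1 : F (j - 1) ≠ F j := fun e => by have := h.inj _ _ (by omega) (by omega) e; omega
  have hne2 : F (j + 1) ≠ F j := fun e => by have := h.inj _ _ (by omega) (by omega) e; omega
  have hne3 : F (j - 1) ≠ F (j + 1) := fun e => by have := h.inj _ _ (by omega) (by omega) e; omega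
  have a1 : mfMatrix ends β (F j) (F (j - 1)) = 1 := by
    rw [mfMatrix, if_neg (Ne.symm hne1), edgeMult_comm]
    have := h.one (j - 1) (by omega)
    rw [Nat.sub_add_cancel h1] at this
    simp [this]
  have a3 : mfMatrix ends β (F j) (F (j + 1)) = 1 := by
    rw [mfMatrix, if_neg (Ne.symm hne2), h.one j h2]; simp
  have hs := alpha_beta h.mult (F j)
  set T : Finset V := {F (j - 1), F j, F (j + 1)} with hT
  rw [← Finset.sum_compl_add_sum T] at hs
  have h3 : ∑ x ∈ T, mfMatrix ends β (F j) x * β x = 0 := by
    rw [hT, Finset.sum_insert (by simp [hne1, hne3]), Finset.sum_pair (Ne.symm hne2), a1, a3,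
      h.diag j h2.le, h.bval _ (by omega), h.bval _ h2.le, h.bval _ (by omega)]
    ring
  rw [h3, add_zero] at hs
  have hnn : ∀ x ∈ Tᶜ, 0 ≤ mfMatrix ends β (F j) x * β x := by
    intro x hx
    simp only [hT, mem_compl, mem_insert, mem_singleton, not_or] at hx
    rw [mfMatrix, if_neg (Ne.symm hx.2.1)]
    exact mul_nonneg (by positivity) (h.mult x).1.le
  have := (Finset.sum_eq_zero_iff_of_nonneg hnn).1 hs w (by simp [hT, n1, n2, n3])
  rcases mul_eq_zero.1 this with h4 | h4
  · exact h4
  · exact absurd h4 (h.mult w).1.ne'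

/-- The special vector. -/
noncomputable def uVec (β : V → ℤ) (m : ℕ) (F : ℕ → V) (S : Finset V) (v : V) : ℤ := by
  classical
  exact if hv : ∃ j, j ≤ m ∧ F j = v then (Nat.find hv : ℤ) else if v ∈ S then β v else 0

lemma uVec_chain {j : ℕ} (hj : j ≤ m) : uVec β m F S (F j) = j := by
  classical
  have hex : ∃ i, i ≤ m ∧ F i = F j := ⟨j, hj, rfl⟩
  rw [uVec, dif_pos hex]
  congr 1
  exact h.inj _ _ (Nat.find_spec hex).1 hj (Nat.find_spec hex).2

lemma row_interior {j : ℕ} (h1 : 1 ≤ j) (h2 : j < m) (y : V → ℤ) :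
    (mfMatrix ends β).mulVec y (F j) = y (F (j - 1)) - 2 * y (F j) + y (F (j + 1)) := by
  have hne1 : F (j - 1) ≠ F j := fun e => by have := h.inj _ _ (by omega) (by omega) e; omega
  have hne2 : F (j + 1) ≠ F j := fun e => by have := h.inj _ _ (by omega) (by omega) e; omega
  have hne3 : F (j - 1) ≠ F (j + 1) := fun e => by have := h.inj _ _ (by omega) (by omega) e; omega
  have a1 : mfMatrix ends β (F j) (F (j - 1)) = 1 := by
    rw [mfMatrix, if_neg (Ne.symm hne1), edgeMult_comm]
    have := h.one (j - 1) (by omega)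
    rw [Nat.sub_add_cancel h1] at this
    simp [this]
  have a3 : mfMatrix ends β (F j) (F (j + 1)) = 1 := by
    rw [mfMatrix, if_neg (Ne.symm hne2), h.one j h2]; simp
  simp only [Matrix.mulVec, dotProduct]
  rw [← Finset.sum_subset (subset_univ {F (j - 1), F j, F (j + 1)})]
  · rw [Finset.sum_insert (by simp [hne1, hne3]), Finset.sum_pair (Ne.symm hne2), a1, a3,
      h.diag j h2.le]
    ring
  · intro x _ hx
    by_contra hcon
    simp only [mem_insert, mem_singleton, not_or] at hx
    rcases interior h h1 h2 (left_ne_zero_of_mul hcon) with r | r | r <;> tauto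

lemma nbr {v w : V} (hvw : v ≠ w) (hw : mfMatrix ends β v w ≠ 0) :
    (v ∈ S ↔ w ∈ S) ∨ (v = F 0 ∧ w = F 1) ∨ (v = F 1 ∧ w = F 0) := by
  rw [mfMatrix, if_neg hvw] at hw
  have hm : edgeMult ends v w ≠ 0 := by exact_mod_cast hw
  by_cases h1 : v ∈ S <;> by_cases h2 : w ∈ S
  · tauto
  · exact Or.inr (Or.inr (h.Scross v w h1 h2 hm))
  · exact Or.inr (Or.inl ((h.Scross w v h2 h1 (edgeMult_comm (ends := ends) v w ▸ hm)).symm))
  · tauto

lemma alpha_uVec : (mfMatrix ends β).mulVec (uVec β m F S) = Pi.single (F 0) 1 - Pi.single (F m) 1 := by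
  classical
  have h0m : F 0 ≠ F m := fun e => by
    have := h.inj _ _ (by omega) le_rfl e; have := h.pos; omega
  funext v
  simp only [Pi.sub_apply, Pi.single_apply]
  by_cases hint : ∃ j, 1 ≤ j ∧ j < m ∧ F j = v
  · obtain ⟨j, j1, j2, rfl⟩ := hint
    rw [row_interior h j1 j2, uVec_chain h (by omega), uVec_chain h j2.le, uVec_chain h (by omega),
      if_neg (fun e => by have := h.inj _ _ j2.le (by omega) e; omega),
      if_neg (fun e => by have := h.inj _ _ j2.le le_rfl e; omega)]
    push_cast [Nat.cast_sub j1]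
    ring
  · push Not at hint
    simp only [Matrix.mulVec, dotProduct]
    by_cases hv : v ∈ S
    · -- compare with `β`
      rw [if_neg (fun e : v = F 0 => h.S0 (e ▸ hv))]
      have key : ∀ w, mfMatrix ends β v w * uVec β m F S w
          = mfMatrix ends β v w * β w + (if v = F m ∧ w = F (m - 1) then -1 else 0) := by
        intro w
        by_cases hz : mfMatrix ends β v w = 0
        · rw [hz, if_neg]
          · ring
          · rintro ⟨rfl, rfl⟩
            rw [mfMatrix, if_neg (fun e => by
              have := h.inj _ _ le_rfl (by omega) e; have := h.pos; omega), edgeMult_comm] at hz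
            have := h.one (m - 1) (by have := h.pos; omega)
            rw [Nat.sub_add_cancel h.pos] at this
            simp [this] at hz
        by_cases hwc : ∃ j, j ≤ m ∧ F j = w
        · obtain ⟨j, hj, rfl⟩ := hwc
          rw [uVec_chain h hj, h.bval j hj]
          by_cases hjm : j = m
          · subst hjm
            rw [if_neg]
            · ring
            · rintro ⟨-, e⟩
              have := h.inj _ _ le_rfl (by omega) e; have := h.pos; omega
          have hjlt : j < m := lt_of_le_of_ne hj hjm
          by_cases hj0 : j = 0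
          · subst hj0
            rcases nbr h (fun e : v = F 0 => h.S0 (e ▸ hv)) hz with r | r | r
            · exact absurd (r.1 hv) h.S0
            · exact absurd hv (r.1 ▸ h.S0)
            · obtain ⟨rfl, -⟩ := r
              have hm1 : m = 1 := by
                by_contra hne
                exact hint 1 le_rfl (by have := h.pos; omega) rfl
              subst hm1
              rw [if_pos ⟨rfl, by simp⟩]
              rw [mfMatrix, if_neg (fun e : F 1 = F 0 => h.S0 (e ▸ hv)), edgeMult_comm, h.one 0 (by omega)]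
              push_cast
              try ring
          · have j1 : 1 ≤ j := Nat.one_le_iff_ne_zero.2 hj0
            rw [alpha_symm] at hz
            rcases interior h j1 hjlt hz with r | r | r
            · by_cases hj1 : j = 1
              · subst hj1
                exact absurd hv (r ▸ h.S0)
              · exact absurd r.symm (hint _ (by omega) (by omega))
            · exact absurd r.symm (hint _ j1 hjlt)
            · by_cases hjm' : j + 1 = m
              · rw [if_pos ⟨by rw [r, hjm'], by rw [show m - 1 = j by omega]⟩]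
                rw [r, alpha_symm, mfMatrix, if_neg (fun e => by
                  have := h.inj _ _ hjlt.le (by omega) e; omega), h.one j hjlt]
                push_cast
                have : (m : ℤ) = j + 1 := by rw [← hjm']; push_cast; ring
                rw [this]; ring
              · exact absurd r.symm (hint _ (by omega) (by omega))
        · rw [uVec, dif_neg hwc, if_neg (fun e : v = F m ∧ w = F (m - 1) => hwc ⟨m - 1, by omega, e.2.symm⟩)]
          by_cases hws : w ∈ S
          · rw [if_pos hws]; ring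
          · rcases nbr h (fun e : v = w => hws (e ▸ hv)) hz with r | r | r
            · exact absurd (r.1 hv) hws
            · exact absurd hv (r.1 ▸ h.S0)
            · exact absurd ⟨0, Nat.zero_le _, r.2.symm⟩ hwc
      rw [Finset.sum_congr rfl fun w _ => key w, Finset.sum_add_distrib, alpha_beta h.mult v]
      by_cases hvm : v = F m <;> simp [hvm]
    · -- outside `S`: `u` vanishes on the neighbours
      rw [if_neg (fun e : v = F m => hv (e ▸ h.Spos m h.pos le_rfl))]
      have key : ∀ w, mfMatrix ends β v w * uVec β m F S w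
          = if v = F 0 ∧ w = F 1 then 1 else 0 := by
        intro w
        by_cases hz : mfMatrix ends β v w = 0
        · rw [hz, if_neg]
          · ring
          · rintro ⟨rfl, rfl⟩
            rw [mfMatrix, if_neg (fun e => by
              have := h.inj _ _ (by omega) h.pos e; omega), h.one 0 h.pos] at hz
            simp at hz
        by_cases hws : w ∈ S
        · rcases nbr h (fun e : v = w => hv (e ▸ hws)) hz with r | r | r
          · exact absurd (r.2 hws) hv
          · obtain ⟨rfl, rfl⟩ := r
            rw [if_pos ⟨rfl, rfl⟩, uVec_chain h h.pos, mfMatrix,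
              if_neg (fun e : F 0 = F 1 => hv (e.symm ▸ hws)), h.one 0 h.pos]
            simp
          · exact absurd hws (r.2 ▸ h.S0)
        · rw [if_neg (fun e : v = F 0 ∧ w = F 1 => hws (e.2 ▸ h.Spos 1 le_rfl h.pos))]
          suffices uVec β m F S w = 0 by rw [this, mul_zero]
          by_cases hwc : ∃ j, j ≤ m ∧ F j = w
          · obtain ⟨j, hj, rfl⟩ := hwc
            rw [uVec_chain h hj]
            by_contra hne
            exact hws (h.Spos j (by omega) hj)
          · rw [uVec, dif_neg hwc, if_neg hws]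
      rw [Finset.sum_congr rfl fun w _ => key w]
      by_cases hv0 : v = F 0 <;> simp [hv0]

lemma mk_chain {j : ℕ} (hj : j ≤ m) : DualGr.ctrMk ends D (F j) = DualGr.ctrMk ends D (F 0) := by
  induction j with
  | zero => rfl
  | succ n ih => rw [← h.Dsup n (by omega), ih (by omega)]

lemma mk_eq {v v' : V} (e : DualGr.ctrMk ends D v = DualGr.ctrMk ends D v') :
    v = v' ∨ ((∃ i, i ≤ m ∧ F i = v) ∧ ∃ i, i ≤ m ∧ F i = v') := by
  have hr : Relation.EqvGen (DualGr.CtrRel ends D) v v' := Quotient.exact e
  clear e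
  induction hr with
  | rel a b hab =>
    obtain ⟨e', he', hab⟩ := hab
    obtain ⟨i, hi, r⟩ := h.Dsub e' he'
    rw [hab] at r
    simp only [Prod.mk.injEq] at r
    rcases r with ⟨rfl, rfl⟩ | ⟨rfl, rfl⟩
    · exact Or.inr ⟨⟨i, hi.le, rfl⟩, ⟨i + 1, hi, rfl⟩⟩
    · exact Or.inr ⟨⟨i + 1, hi, rfl⟩, ⟨i, hi.le, rfl⟩⟩
  | refl => exact Or.inl rfl
  | symm a b _ ih => rcases ih with r | r; exacts [Or.inl r.symm, Or.inr r.symm]
  | trans a b c _ _ ih1 ih2 =>
    rcases ih1 with r | r
    · subst r; exact ih2
    · rcases ih2 with r' | r'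
      · subst r'; exact Or.inr r
      · exact Or.inr ⟨r.1, r'.2⟩

lemma beta_const (v v' : V) (e : DualGr.ctrMk ends D v = DualGr.ctrMk ends D v') : β v = β v' := by
  rcases mk_eq h e with r | ⟨⟨i, hi, rfl⟩, j, hj, rfl⟩
  · rw [r]
  · rw [h.bval i hi, h.bval j hj]

lemma pushV_liftAt (x : DualGr.CtrVert ends D → ℤ) :
    DualGr.pushV ends D (liftAt ends D (F 0) x) = x := by
  funext C
  obtain ⟨v, rfl⟩ := DualGr.ctrMk_surjective ends D C
  simp only [DualGr.pushV, LinearMap.coe_mk, AddHom.coe_mk, liftAt]
  by_cases hv : DualGr.ctrMk ends D v = DualGr.ctrMk ends D (F 0)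
  · rw [Finset.sum_eq_single (F 0)]
    · simp [hv]
    · intro w hw hne
      simp only [mem_filter, mem_univ, true_and] at hw
      rw [if_pos ⟨hw.trans hv, hne⟩]
    · simp [hv]
  · rw [Finset.sum_eq_single v]
    · simp [hv]
    · intro w hw hne
      simp only [mem_filter, mem_univ, true_and] at hw
      rcases mk_eq h hw with r | ⟨-, j, hj, rfl⟩
      · exact absurd r hne
      · exact absurd (mk_chain h hj) hv
    · simp

lemma pushV_delta : DualGr.pushV ends D (Pi.single (F 0) 1 - Pi.single (F m) 1) = 0 := by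
  funext C
  simp only [DualGr.pushV, LinearMap.coe_mk, AddHom.coe_mk, Pi.sub_apply, Finset.sum_sub_distrib,
    Finset.sum_pi_single', mem_filter, mem_univ, true_and, mk_chain h le_rfl, sub_self, Pi.zero_apply]

/-- Injectivity. -/
theorem injective (x : DualGr.CtrVert ends D → ℤ)
    (hfx : liftAt ends D (F 0) x ∈ LinearMap.range (Matrix.mulVecLin (mfMatrix ends β))) :
    x ∈ LinearMap.range (Matrix.mulVecLin (mfMatrix (DualGr.ctrEnds ends D) (ctrFn ends D β))) := by
  obtain ⟨y, hy⟩ := hfx
  rw [Matrix.mulVecLin_apply] at hy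
  set d : ℤ := y (F 1) - y (F 0) with hd
  have lin : ∀ j, j + 1 ≤ m → y (F j) = y (F 0) + j * d ∧ y (F (j + 1)) = y (F 0) + (j + 1) * d := by
    intro j
    induction j with
    | zero => intro _; constructor <;> simp [hd]
    | succ n ih =>
      intro hn
      obtain ⟨i1, i2⟩ := ih (by omega)
      refine ⟨by rw [i2]; push_cast; ring, ?_⟩
      have hrow := congrFun hy (F (n + 1))
      rw [row_interior h (by omega) (by omega), Nat.add_sub_cancel] at hrow
      have hz : liftAt ends D (F 0) x (F (n + 1)) = 0 := by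
        rw [liftAt, if_pos ⟨mk_chain h (by omega), fun e => by
          have := h.inj _ _ (by omega) (by omega) e; omega⟩]
      rw [hz, i1, i2] at hrow
      push_cast
      linarith
  set Y : V → ℤ := y - d • uVec β m F S with hY
  have hYchain : ∀ j, j ≤ m → Y (F j) = y (F 0) := by
    intro j hj
    simp only [hY, Pi.sub_apply, Pi.smul_apply, smul_eq_mul, uVec_chain h hj]
    rcases j with - | n
    · simp
    · rw [(lin n hj).2]; push_cast; ring
  refine ⟨fun C => Y (Quotient.out (s := DualGr.ctrSetoid ends D) C), ?_⟩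
  rw [Matrix.mulVecLin_apply, push_mulVec ends h.mult (beta_const h)]
  have hYe : (fun v => Y (Quotient.out (s := DualGr.ctrSetoid ends D) (DualGr.ctrMk ends D v))) = Y := by
    funext v
    rcases mk_eq h (ctrMk_out ends D (DualGr.ctrMk ends D v)) with r | ⟨⟨i, hi, e1⟩, j, hj, e2⟩
    · rw [r]
    · rw [← e1, hYchain i hi, ← hYchain j hj, e2]
  rw [hYe, hY, Matrix.mulVec_sub, Matrix.mulVec_smul, hy, alpha_uVec h, map_sub, map_smul,
    pushV_liftAt h, pushV_delta h, smul_zero, sub_zero]

/-- The image of the contracted matrix lifts into the image of the matrix. -/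
theorem lift_range (y' : DualGr.CtrVert ends D → ℤ) :
    liftAt ends D (F 0) ((mfMatrix (DualGr.ctrEnds ends D) (ctrFn ends D β)).mulVec y')
      ∈ LinearMap.range (Matrix.mulVecLin (mfMatrix ends β)) := by
  set Y : V → ℤ := fun v => y' (DualGr.ctrMk ends D v) with hY
  set a := (mfMatrix ends β).mulVec Y with ha
  refine ⟨Y + a (F m) • uVec β m F S, ?_⟩
  rw [Matrix.mulVecLin_apply, Matrix.mulVec_add, Matrix.mulVec_smul, ← ha, alpha_uVec h,
    push_mulVec ends h.mult (beta_const h), ← hY, ← ha]
  have hmid : ∀ j, 1 ≤ j → j < m → a (F j) = 0 := by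
    intro j j1 j2
    rw [ha, row_interior h j1 j2]
    simp only [hY]
    rw [mk_chain h (j := j - 1) (by omega), mk_chain h (j := j) j2.le, mk_chain h (j := j + 1) j2]
    ring
  have h0m : F 0 ≠ F m := fun e => by
    have := h.inj _ _ (by omega) le_rfl e; have := h.pos; omega
  funext v
  simp only [Pi.add_apply, Pi.smul_apply, Pi.sub_apply, Pi.single_apply, smul_eq_mul, liftAt,
    DualGr.pushV, LinearMap.coe_mk, AddHom.coe_mk]
  by_cases hv : DualGr.ctrMk ends D v = DualGr.ctrMk ends D (F 0)
  · have hvc : ∃ j, j ≤ m ∧ F j = v := by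
      rcases mk_eq h hv with r | r
      · exact ⟨0, Nat.zero_le _, r.symm⟩
      · exact r.1
    obtain ⟨j, hj, rfl⟩ := hvc
    by_cases hj0 : j = 0
    · subst hj0
      rw [if_pos rfl, if_neg h0m, if_neg (fun e => e.2 rfl)]
      rw [show univ.filter (fun w => DualGr.ctrMk ends D w = DualGr.ctrMk ends D (F 0))
          = (Finset.range (m + 1)).image F by
        ext w
        simp only [mem_filter, mem_univ, true_and, mem_image, mem_range]
        refine ⟨fun e => ?_, ?_⟩
        · rcases mk_eq h e with r | ⟨⟨i, hi, r⟩, -⟩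
          · exact ⟨0, by omega, r.symm⟩
          · exact ⟨i, by omega, r⟩
        · rintro ⟨i, hi, rfl⟩; exact mk_chain h (by omega)]
      rw [Finset.sum_image (fun i hi k hk e => h.inj i k (by simp at hi; omega) (by simp at hk; omega) e),
        Finset.sum_range_succ, Finset.sum_eq_single 0]
      · ring
      · intro i hi hne
        exact hmid i (by omega) (Finset.mem_range.1 hi)
      · intro hn; exact absurd (Finset.mem_range.2 h.pos) hn
    · have hne : F j ≠ F 0 := fun e => hj0 (h.inj _ _ hj (Nat.zero_le _) e)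
      rw [if_neg hne, if_pos (show DualGr.ctrMk ends D (F j) = DualGr.ctrMk ends D (F 0) ∧ F j ≠ F 0 from ⟨hv, hne⟩)]
      by_cases hjm : j = m
      · subst hjm; rw [if_pos rfl]; ring
      · rw [if_neg (fun e => hjm (h.inj _ _ hj le_rfl e)), hmid j (by omega) (by omega)]; ring
  · have n0 : v ≠ F 0 := fun e => hv (e ▸ rfl)
    have nm : v ≠ F m := fun e => hv (e ▸ mk_chain h le_rfl)
    rw [if_neg n0, if_neg nm, if_neg (fun e => hv e.1), Finset.sum_eq_single v]
    · ring
    · intro w hw hne
      simp only [mem_filter, mem_univ, true_and] at hw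
      rcases mk_eq h hw with r | ⟨-, j, hj, rfl⟩
      · exact absurd r hne
      · exact absurd (mk_chain h hj) hv
    · simp

/-- Surjectivity: every vector is congruent to one vanishing on `F 1, …, F m`. -/
theorem reduce (y : V → ℤ) : ∃ w : V → ℤ,
    ∀ j, 1 ≤ j → j ≤ m → (y + (mfMatrix ends β).mulVec w) (F j) = 0 := by
  suffices ∀ k, k ≤ m → ∀ y : V → ℤ, ∃ w : V → ℤ,
      ∀ j, m + 1 - k ≤ j → j ≤ m → (y + (mfMatrix ends β).mulVec w) (F j) = 0 by
    obtain ⟨w, hw⟩ := this m le_rfl y
    exact ⟨w, fun j j1 j2 => hw j (by omega) j2⟩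
  intro k
  induction k with
  | zero => intro _ y; exact ⟨0, fun j j1 j2 => absurd j2 (by omega)⟩
  | succ k ih =>
    intro hk y
    obtain ⟨w, hw⟩ := ih (by omega) y
    -- kill the entry at `F (m - k)` using the column of `F (m - k - 1)`
    set i := m - k - 1 with hi
    set z := y + (mfMatrix ends β).mulVec w with hz
    refine ⟨w - z (F (i + 1)) • Pi.single (F i) 1, fun j j1 j2 => ?_⟩
    rw [Matrix.mulVec_sub, Matrix.mulVec_smul, Matrix.mulVec_single_one, ← add_sub_assoc, ← hz]
    simp only [Pi.sub_apply, Pi.smul_apply, smul_eq_mul, Matrix.col_apply]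
    by_cases hj : j = i + 1
    · subst hj
      have : mfMatrix ends β (F (i + 1)) (F i) = 1 := by
        rw [mfMatrix, if_neg (fun e => by have := h.inj _ _ j2 (by omega) e; omega), edgeMult_comm,
          h.one i (by omega)]
        simp
      rw [this]; ring
    · have hzj : z (F j) = 0 := hw j (by omega) j2
      have : mfMatrix ends β (F j) (F i) = 0 := by
        by_contra hne
        by_cases hjm : j < m
        · rcases interior h (by omega) hjm hne with r | r | r <;>
            [have := h.inj _ _ (by omega) (by omega) r; have := h.inj _ _ (by omega) (by omega) r;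
             have := h.inj _ _ (by omega) (by omega) r] <;> omega
        · rw [alpha_symm] at hne
          by_cases hi0 : i = 0
          · rw [hi0] at hne
            rcases nbr h (fun e => by have := h.inj _ _ (by omega) j2 e; omega) hne with r | r | r
            · exact h.S0 (r.2 (h.Spos j (by omega) j2))
            · have := h.inj _ _ j2 (by omega) r.2; omega
            · have := h.inj _ _ (by omega) h.pos r.1; omega
          · rcases interior h (by omega) (by omega) hne with r | r | r <;>
              [have := h.inj _ _ (by omega) (by omega) r; have := h.inj _ _ (by omega) (by omega) r;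
               have := h.inj _ _ (by omega) (by omega) r] <;> omega
      rw [hzj, this]; ring

lemma beta_lift (x : DualGr.CtrVert ends D → ℤ) :
    betaHom β (liftAt ends D (F 0) x) = betaHom (ctrFn ends D β) x := by
  conv_rhs => rw [← pushV_liftAt h x]
  simp only [betaHom, Fintype.linearCombination_apply, DualGr.pushV, LinearMap.coe_mk, AddHom.coe_mk,
    smul_eq_mul, Finset.sum_mul]
  rw [← Finset.sum_fiberwise univ (fun v => DualGr.ctrMk ends D v)
    fun v => liftAt ends D (F 0) x v * β v]
  refine Finset.sum_congr rfl fun C _ => Finset.sum_congr rfl fun v hv => ?_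
  simp only [mem_filter, mem_univ, true_and] at hv
  rw [← hv, ctrFn_mk ends D (beta_const h)]

omit h in
lemma beta_alpha (hβ : IsMultFn ends β) (w : V → ℤ) :
    betaHom β ((mfMatrix ends β).mulVec w) = 0 := by
  simp only [betaHom, Fintype.linearCombination_apply, smul_eq_mul, Matrix.mulVec, dotProduct,
    Finset.sum_mul]
  rw [Finset.sum_comm]
  refine Finset.sum_eq_zero fun v _ => ?_
  calc ∑ u, mfMatrix ends β u v * w v * β u = (∑ u, mfMatrix ends β v u * β u) * w v := by
        rw [Finset.sum_mul]
        exact Finset.sum_congr rfl fun u _ => by rw [alpha_symm u v]; ring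
    _ = 0 := by rw [alpha_beta hβ, zero_mul]

end Chain

/-- Build the data from the hypotheses of the statements. -/
theorem exists_data (hβ : IsMultFn ends β) {m : ℕ} (f : Fin (m + 1) → V) (e : Fin m → E)
    (hC : IsChain ends f e) (hconn : ∀ i, IsConnecting ends (e i)) (hβm : ∀ i, β (f i) = m)
    (hα : ∀ i, mfMatrix ends β (f i) (f i) = -2) :
    ∃ (F : ℕ → V) (S : Finset V), F 0 = f 0 ∧ Data ends β m F (univ.image e) S := by
  classical
  obtain ⟨finj, einj, hends⟩ := hC
  have hm : 1 ≤ m := by
    have h1 := (hβ (f 0)).1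
    rw [hβm 0] at h1
    omega
  let F : ℕ → V := fun i => f ⟨min i m, by omega⟩
  have Fc : ∀ i : Fin m, F i.1 = f i.castSucc ∧ F (i.1 + 1) = f i.succ := by
    intro i
    constructor <;> (simp only [F]; congr 1; ext; simp <;> omega)
  have Finj : ∀ i j, i ≤ m → j ≤ m → F i = F j → i = j := by
    intro i j hi hj hij
    have h1 := congrArg Fin.val (finj hij)
    simp only at h1
    omega
  -- sides of connecting edges
  have side : ∀ i : Fin m, ∃ S : Finset V, f i.castSucc ∉ S ∧ f i.succ ∈ S ∧
      ∀ e' : E, ((ends e').1 ∈ S ↔ (ends e').2 ∉ S) → e' = e i := by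
    intro i
    obtain ⟨S, hS⟩ := hconn i
    have hcr := (hS (e i)).2 rfl
    by_cases h1 : f i.castSucc ∈ S
    · refine ⟨Sᶜ, by simp [h1], ?_, fun e' he' => (hS e').1 ?_⟩
      · rcases hends i with r | r <;> (rw [r] at hcr; simp only at hcr; simp only [mem_compl]; tauto)
      · simp only [mem_compl] at he'; tauto
    · refine ⟨S, h1, ?_, fun e' he' => (hS e').1 he'⟩
      rcases hends i with r | r <;> (rw [r] at hcr; simp only at hcr; tauto)
  have one : ∀ i : Fin m, edgeMult ends (f i.castSucc) (f i.succ) = 1 := by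
    intro i
    obtain ⟨S, s1, s2, s3⟩ := side i
    rw [edgeMult, Finset.card_eq_one]
    refine ⟨e i, Finset.ext fun e' => ?_⟩
    simp only [mem_filter, mem_univ, true_and, mem_singleton]
    refine ⟨fun he => s3 e' ?_, fun he => he ▸ hends i⟩
    rcases he with r | r <;> (rw [r]; simp only; tauto)
  obtain ⟨S, s1, s2, s3⟩ := side ⟨0, hm⟩
  have hF0 : F 0 = f 0 := by simp only [F]; congr 1
  have hF1 : F 1 = f (Fin.succ ⟨0, hm⟩) := (Fc ⟨0, hm⟩).2
  refine ⟨F, S, hF0, ⟨hβ, hm, Finj, fun i _ => hβm _, fun i _ => hα _, ?_, ?_, ?_, ?_, ?_, ?_⟩⟩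
  · intro i hi
    rw [(Fc ⟨i, hi⟩).1, (Fc ⟨i, hi⟩).2]; exact one _
  · intro e' he'
    simp only [mem_image, mem_univ, true_and] at he'
    obtain ⟨i, rfl⟩ := he'
    exact ⟨i.1, i.2, by rw [(Fc i).1, (Fc i).2]; exact hends i⟩
  · intro i hi
    have h1 := DualGr.ctrMk_fst_eq_ctrMk_snd ends (univ.image e)
      (Finset.mem_image_of_mem e (mem_univ (⟨i, hi⟩ : Fin m)))
    rw [(Fc ⟨i, hi⟩).1, (Fc ⟨i, hi⟩).2]
    rcases hends ⟨i, hi⟩ with r | r <;> rw [r] at h1
    · exact h1
    · exact h1.symm
  · rw [hF0]; simpa using s1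
  · intro i i1 i2
    induction i with
    | zero => omega
    | succ n ih =>
      by_cases hn : n = 0
      · subst hn; rw [hF1]; exact s2
      · have hp := ih (by omega) (by omega)
        rw [(Fc ⟨n, i2⟩).1] at hp
        rw [(Fc ⟨n, i2⟩).2]
        by_contra hq
        have := s3 (e ⟨n, i2⟩) (by
          rcases hends ⟨n, i2⟩ with r | r <;> (rw [r]; simp only; tauto))
        exact hn (congrArg Fin.val (einj this))
  · intro v w hv hw hne
    rw [edgeMult, Ne, Finset.card_eq_zero, ← Ne, ← Finset.nonempty_iff_ne_empty] at hne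
    obtain ⟨e', he'⟩ := hne
    simp only [mem_filter, mem_univ, true_and] at he'
    have he0 : e' = e ⟨0, hm⟩ := s3 e' (by rcases he' with r | r <;> (rw [r]; simp only; tauto))
    subst he0
    rw [hF1, hF0]
    have e00 : Fin.castSucc (⟨0, hm⟩ : Fin m) = 0 := rfl
    rw [e00] at s1
    rcases hends ⟨0, hm⟩ with r | r <;> rcases he' with r' | r' <;> rw [r] at r' <;>
      simp only [Prod.mk.injEq] at r' <;> obtain ⟨ra, rb⟩ := r' <;> rw [e00] at * <;>
      first
        | exact ⟨ra.symm, rb.symm⟩
        | exact ⟨rb.symm, ra.symm⟩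
        | exact absurd hv (by rw [← ra]; exact s1)
        | exact absurd hv (by rw [← rb]; exact s1)

end Groth.Agent.LabChainH28
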